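import Groth.Agent.CartInt.QuotSup
import Groth.Agent.Depth.Local
import Groth.Agent.Fibres16.EquidimStalk
import Groth.Agent.Snapper.Basic
import Groth.Agent.Snapper.Binom
import Groth.Agent.EulerChar.Torsion
import Groth.Agent.HilbPolyX.Basic
import Groth.Agent.EulerChar.Restrict
import Groth.Agent.LimTop.TensorQC
import Groth.Agent.HomShEval.Reflexive

/-!
# Intersection numbers of effective Cartier divisors meeting in finitely many points
-/

set_option autoImplicit false
set_option linter.style.haveILetI false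
set_option backward.isDefEq.respectTransparency false
set_option backward.isDefEq.respectTransparency.types false

universe u

open CategoryTheory CategoryTheory.Limits AlgebraicGeometry Opposite MonoidalCategory TopologicalSpace

noncomputable section

namespace Groth.Agent.CartInt

open Groth.Agent.QCoh Groth.Agent.Props.GenLocus Groth.Agent.Props.GenTensor Groth.Agent.ProjTwist
open Groth.Agent.PullStalk.Sky Groth.Agent.PullStalk.Exact Groth.Agent.NegVan
open scoped Pointwise

variable {X : Scheme.{u}}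

/-- Points of a finite closed subset of a Jacobson space are closed. -/
theorem isClosed_singleton_of_finite {Y : Type u} [TopologicalSpace Y] [JacobsonSpace Y] [T0Space Y]
    {T : Set Y} (hT : IsClosed T) (hfin : T.Finite) {y : Y} (hy : y ∈ T) : IsClosed ({y} : Set Y) := by
  let A : Set Y := ⋃ z ∈ {z ∈ closure ({y} : Set Y) | z ≠ y}, closure {z}
  have hA : IsClosed A := Set.Finite.isClosed_biUnion
    (hfin.subset fun z hz => closure_minimal (Set.singleton_subset_iff.2 hy) hT hz.1) fun z _ => isClosed_closure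
  have he : closure ({y} : Set Y) ∩ Aᶜ = {y} := by
    ext z
    constructor
    · rintro ⟨h1, h2⟩
      by_contra hne
      exact h2 (Set.mem_iUnion₂.2 ⟨z, ⟨h1, hne⟩, subset_closure rfl⟩)
    · rintro rfl
      refine ⟨subset_closure rfl, fun h => ?_⟩
      obtain ⟨w, ⟨hw1, hw2⟩, hw3⟩ := Set.mem_iUnion₂.1 h
      exact hw2 (((specializes_iff_mem_closure.2 hw1).antisymm (specializes_iff_mem_closure.2 hw3)).eq.symm)
  obtain ⟨x, hx1, hx2⟩ := nonempty_inter_closedPoints (X := Y) (Z := closure ({y} : Set Y) ∩ Aᶜ)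
    (by rw [he]; exact Set.singleton_nonempty y) (isClosed_closure.isLocallyClosed.inter hA.isOpen_compl.isLocallyClosed)
  rw [he, Set.mem_singleton_iff] at hx1
  exact hx1 ▸ hx2

/-- `G = O`: the image of `mulθ` is the ideal. -/
theorem range_idealModι (D : X.IdealSheafData) (hD : PicF.IsInvertible (ClSub.idealMod D)) (x : X) :
    LinearMap.range (stalkLin (mulθ (ClSub.idealModι D) (Coh.structureModule X)) x) =
      LinearMap.range (stalkLin (ClSub.idealModι D) x) := by
  have comm : ∀ (U : X.Opens) (a : Γ(X, U)) (j : Γ(ClSub.idealMod D, U)),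
      (mulθ (ClSub.idealModι D) (Coh.structureModule X)).app U (tmul (show Γ(Coh.structureModule X, U) from a) j) =
        (ClSub.idealModι D).app U (a • j) := by
    intro U a j
    rw [mulθ_tmul, Scheme.Modules.Hom.app_smul]
    exact mul_comm (show Γ(X, U) from (ClSub.idealModι D).app U j) a
  refine le_antisymm ?_ ?_
  · rintro _ ⟨z, rfl⟩
    obtain ⟨U, e, hxU, he⟩ := exists_isGen hD x
    obtain ⟨W, hW, hxW, g, rfl⟩ := exists_germ_tmul he x hxU z
    refine ⟨germM _ W x hxW ((show Γ(X, W) from g) • res _ hW e), ?_⟩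
    rw [stalkLin_germ, stalkLin_germ]
    exact congrArg _ (comm W g _).symm
  · rintro _ ⟨z, rfl⟩
    obtain ⟨W, hxW, j, rfl⟩ := exists_germM_eq _ x z
    refine ⟨germM _ W x hxW (tmul (show Γ(Coh.structureModule X, W) from (1 : Γ(X, W))) j), ?_⟩
    rw [stalkLin_germ, stalkLin_germ]
    exact congrArg _ ((comm W 1 j).trans (by rw [one_smul]))

section Stalk

variable (D : X.IdealSheafData) (hD : PicF.IsInvertible (ClSub.idealMod D))

include hD

/-- A local equation at a point. -/
theorem exists_equation (x : X) : ∃ f : X.presheaf.stalk x,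
    (∀ (G : X.Modules) (t : G.presheaf.stalk x),
      t ∈ LinearMap.range (stalkLin (mulθ (ClSub.idealModι D) G) x) ↔ ∃ s, f • s = t) ∧
    (∀ G : X.Modules, IsSMulRegular (G.presheaf.stalk x) f →
      Function.Injective (stalkLin (mulθ (ClSub.idealModι D) G) x)) ∧
    f ∈ Module.annihilator (X.presheaf.stalk x) ((ClSub.quotMod D).presheaf.stalk x) := by
  obtain ⟨U, e, hxU, he⟩ := exists_isGen hD x
  refine ⟨X.presheaf.germ U x hxU (show Γ(X, U) from (ClSub.idealModι D).app U e),
    fun G t => mem_range_mulθ_iff _ G he x hxU t, fun G hreg => ?_, ?_⟩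
  · refine (injective_iff_map_eq_zero _).2 fun z hz => ?_
    obtain ⟨W, hW, hxW, g, rfl⟩ := exists_germ_tmul he x hxU z
    rw [stalkLin_mulθ, app_res] at hz
    have hz' : X.presheaf.germ U x hxU (show Γ(X, U) from (ClSub.idealModι D).app U e) • germM G W x hxW g =
        X.presheaf.germ U x hxU (show Γ(X, U) from (ClSub.idealModι D).app U e) • (0 : G.presheaf.stalk x) := by
      rw [smul_zero]
      refine Eq.trans ?_ hz
      exact congrArg (fun r : X.presheaf.stalk x => r • germM G W x hxW g)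
        (X.presheaf.germ_res_apply (homOfLE hW) x hxW _).symm
    have hg := hreg hz'
    obtain ⟨W', hxW', i, i', hW'⟩ := G.presheaf.germ_eq x hxW hxW g 0 (hg.trans (AssSch.Stalk.germM_zero G x hxW).symm)
    rw [map_zero] at hW'
    have hle : W' ≤ W := i.le
    have hg0 : res G hle g = 0 := hW'
    rw [← AssSch.Stalk.germM_res _ hle x hxW' (tmul g (res _ hW e)), res_tmul, hg0, tmul_zero_left]
    exact AssSch.Stalk.germM_zero _ x hxW'
  · refine Module.mem_annihilator.2 fun t => ?_
    have hS := EulerChar.shortExact_ideal D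
    obtain ⟨s, rfl⟩ := (stalk_exact hS x).2.2 t
    rw [← map_smul]
    refine (((stalk_exact hS x).2.1) _).2 ?_
    show _ ∈ LinearMap.range (stalkLin (ClSub.idealModι D) x)
    rw [← range_idealModι D hD x, mem_range_mulθ_iff _ _ he x hxU]
    exact ⟨s, rfl⟩

theorem isUnitAt_of_not_mem {x : X} (hx : x ∉ CohB1.support (ClSub.quotMod D)) :
    IsUnitAt (ClSub.idealModι D) x := by
  intro t
  haveI : Subsingleton ((ClSub.quotMod D).presheaf.stalk x) := not_not.1 hx
  exact ((stalk_exact (EulerChar.shortExact_ideal D) x).2.1 t).1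
    (@Subsingleton.elim ((ClSub.quotMod D).presheaf.stalk x) _ _ _)

end Stalk

section Step

theorem stalk_cokernel_π {A B : X.Modules} (φ : A ⟶ B) (x : X) (t : B.presheaf.stalk x) :
    stalkLin (cokernel.π φ) x t = 0 ↔ t ∈ LinearMap.range (stalkLin φ x) := by
  let ψ : cokernel (kernel.ι φ) ⟶ B := cokernel.desc (kernel.ι φ) φ (kernel.condition φ)
  haveI : Mono ψ := inferInstanceAs (Mono (Abelian.factorThruCoimage φ))
  have hψ : cokernel.π (kernel.ι φ) ≫ ψ = φ := cokernel.π_desc _ _ _
  constructor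
  · intro h
    have hS : (ShortComplex.mk ψ (cokernel.π ψ) (cokernel.condition ψ)).ShortExact :=
      ShortComplex.ShortExact.mk' (ShortComplex.exact_cokernel ψ) inferInstance (inferInstanceAs (Epi (cokernel.π ψ)))
    let u : cokernel φ ⟶ cokernel ψ := cokernel.desc φ (cokernel.π ψ)
      ((congrArg (· ≫ cokernel.π ψ) hψ.symm).trans (by rw [Category.assoc, cokernel.condition, comp_zero]))
    have h' : stalkLin (cokernel.π ψ) x t = 0 := by
      rw [show cokernel.π ψ = cokernel.π φ ≫ u from (cokernel.π_desc _ _ _).symm, CohDev.stalkLin_comp_apply, h,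
        map_zero]
    obtain ⟨c, hc⟩ := ((stalk_exact hS x).2.1 t).1 h'
    obtain ⟨a, ha⟩ := stalk_surjective (cokernel.π (kernel.ι φ)) x c
    exact ⟨a, (congrArg (fun f => stalkLin f x a) hψ.symm).trans
      ((CohDev.stalkLin_comp_apply _ _ x a).trans (by rw [ha]; exact hc))⟩
  · rintro ⟨a, rfl⟩
    obtain ⟨U, hxU, m, rfl⟩ := exists_germM_eq A x a
    rw [stalkLin_germ, stalkLin_germ]
    refine (congrArg (germM _ U x hxU) ?_).trans (AssSch.Stalk.germM_zero _ x hxU)
    exact congrArg (fun ξ => Scheme.Modules.Hom.app ξ U m) (cokernel.condition φ)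


variable [IsLocallyNoetherian X] (D : X.IdealSheafData) (G : X.Modules) [G.IsQuasicoherent]

/-- The multiplication `G ⊗ I → G ⊗ O`. -/
abbrev phi : CohB1.tensorMod G (ClSub.idealMod D) ⟶ CohB1.tensorMod G (Coh.structureModule X) :=
  mapR G (ClSub.idealModι D)

theorem nonempty_coker :
    Nonempty (cokernel (phi D G) ≅ CohB1.tensorMod G (ClSub.quotMod D)) := by
  haveI : PreservesColimitsOfSize.{0, 0} ((DCoh.tensorBi (X := X)).obj G) :=
    KFlat.TensorLocFree.preservesColimits_tensorBi_obj G
  haveI : PreservesFiniteColimits ((DCoh.tensorBi (X := X)).obj G) :=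
    PreservesColimitsOfSize.preservesFiniteColimits _
  have hS := EulerChar.shortExact_ideal D
  haveI := hS.epi_g
  exact ⟨(cokernelIsCokernel (phi D G)).coconePointUniqueUpToIso
    (CokernelCofork.mapIsColimit (CokernelCofork.ofπ _ (kernel.condition _)) hS.gIsCokernel
      ((DCoh.tensorBi (X := X)).obj G))⟩

theorem stalk_phi (x : X) (z : (CohB1.tensorMod G (ClSub.idealMod D)).presheaf.stalk x) :
    stalkLin (mu G) x (stalkLin (phi D G) x z) = stalkLin (mulθ (ClSub.idealModι D) G) x z := by
  rw [← CohDev.stalkLin_comp_apply, map_comp_mu]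

theorem injective_phi {x : X} (h : Function.Injective (stalkLin (mulθ (ClSub.idealModι D) G) x)) :
    Function.Injective (stalkLin (phi D G) x) := fun a b hab => h (by
  rw [← stalk_phi, ← stalk_phi, hab])

/-- The stalk of `G ⊗ O/D`. -/
theorem nonempty_stalk_quot (hD : PicF.IsInvertible (ClSub.idealMod D)) (x : X) {f : X.presheaf.stalk x}
    (hf : ∀ t : G.presheaf.stalk x,
      t ∈ LinearMap.range (stalkLin (mulθ (ClSub.idealModι D) G) x) ↔ ∃ s, f • s = t) :
    Nonempty (QuotSMulTop f (G.presheaf.stalk x) ≃ₗ[X.presheaf.stalk x]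
      (CohB1.tensorMod G (ClSub.quotMod D)).presheaf.stalk x) := by
  haveI : PreservesColimitsOfSize.{0, 0} ((DCoh.tensorBi (X := X)).obj G) :=
    KFlat.TensorLocFree.preservesColimits_tensorBi_obj G
  haveI : PreservesFiniteColimits ((DCoh.tensorBi (X := X)).obj G) :=
    PreservesColimitsOfSize.preservesFiniteColimits _
  haveI := bijective_stalk_mu G
  obtain ⟨e₀⟩ := nonempty_coker D G
  let e : cokernel (mulθ (ClSub.idealModι D) G) ≅ CohB1.tensorMod G (ClSub.quotMod D) :=
    cokernelIsoOfEq (map_comp_mu G (ClSub.idealModι D)).symm ≪≫ cokernelCompIsIso (phi D G) (mu G) ≪≫ e₀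
  have hker : LinearMap.ker (stalkLin (cokernel.π (mulθ (ClSub.idealModι D) G)) x) =
      f • (⊤ : Submodule (X.presheaf.stalk x) (G.presheaf.stalk x)) := by
    ext t
    rw [LinearMap.mem_ker, Submodule.mem_smul_pointwise_iff_exists, stalk_cokernel_π, hf]
    exact ⟨fun ⟨s, hs⟩ => ⟨s, trivial, hs⟩, fun ⟨s, _, hs⟩ => ⟨s, hs⟩⟩
  exact ⟨(Submodule.quotEquivOfEq _ _ hker.symm).trans ((LinearMap.quotKerEquivOfSurjective _
    (stalk_surjective (cokernel.π _) x)).trans (LinearEquiv.ofBijective (stalkLin e.hom x)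
      (Function.bijective_iff_has_inverse.2 ⟨stalkLin e.inv x,
        fun t => by rw [← CohDev.stalkLin_comp_apply, e.hom_inv_id, CohDev.stalkLin_id_apply],
        fun t => by rw [← CohDev.stalkLin_comp_apply, e.inv_hom_id, CohDev.stalkLin_id_apply]⟩)))⟩

omit [IsLocallyNoetherian X] in
theorem support_tensor_quot_subset (D : X.IdealSheafData) (G : X.Modules) :
    CohB1.support (CohB1.tensorMod G (ClSub.quotMod D)) ⊆ CohB1.support G ∩ CohB1.support (ClSub.quotMod D) :=
  fun _ hx => ⟨HilbPolyX.support_tensorMod_subset _ _ hx,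
    HilbPolyX.support_tensorMod_subset _ _ (CohDev.support_subset_of_mono (ProjTwist.tensComm G _).hom hx)⟩

end Step

variable (k : Type u) [Field k] [X.Over (Spec (CommRingCat.of k))] [IsProper (X ↘ Spec (CommRingCat.of k))]

include k

open Snapper

/-- `[φ]`: the classes of kernel and cokernel. -/
theorem kcl_map {A B : X.Modules} (φ : A ⟶ B) (hA : Coh.IsCoh A) (hB : Coh.IsCoh B) :
    CohDev.kcl B - CohDev.kcl A = CohDev.kcl (cokernel φ) - CohDev.kcl (kernel φ) := by
  haveI := EulerChar.isNoetherian k (X := X)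
  let C := cokernel (kernel.ι φ)
  let ψ : C ⟶ B := cokernel.desc (kernel.ι φ) φ (kernel.condition φ)
  haveI : Mono ψ := inferInstanceAs (Mono (Abelian.factorThruCoimage φ))
  have hK : Coh.IsCoh (kernel φ) := CohDev.isCoh_kernel' φ hA hB
  have hC : Coh.IsCoh C := CohDev.isCoh_cokernel _ hK.1 hA
  have h1 := CohDev.kcl_mono (kernel.ι φ) hK hA
  have h2 := CohDev.kcl_mono ψ hC hB
  have e : cokernel φ ≅ cokernel ψ :=
    cokernelIsoOfEq (cokernel.π_desc _ _ _).symm ≪≫ cokernelEpiComp (cokernel.π (kernel.ι φ)) ψ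
  rw [← CohDev.kcl_iso e (CohDev.isCoh_cokernel φ hA.1 hB)] at h2
  rw [h1, h2]
  abel

/-- One step of the recursion. -/
theorem intE_cons_ideal {r : ℕ} {N : Fin r → X.Modules} (hN : ∀ i, PicF.IsInvertible (N i))
    (D : X.IdealSheafData) (hD : PicF.IsInvertible (ClSub.idealMod D)) {G : X.Modules} (hG : Coh.IsCoh G) :
    Coh.IsCoh (CohB1.tensorMod G (ClSub.quotMod D)) ∧ Coh.IsCoh (kernel (phi D G)) ∧
    intE k (Fin.cons (ClSub.idealMod D) N) G =
      intE k N (CohB1.tensorMod G (ClSub.quotMod D)) - intE k N (kernel (phi D G)) := by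
  haveI := EulerChar.isNoetherian k (X := X)
  haveI : G.IsQuasicoherent := hG.1
  have h1 : Coh.IsCoh (CohB1.tensorMod G (ClSub.idealMod D)) := ProjTwist.isCoh_tensor hD hG
  have h2 : Coh.IsCoh (CohB1.tensorMod G (Coh.structureModule X)) :=
    ProjTwist.isCoh_tensor (LFFrame.isInvertible_structureModule X) hG
  obtain ⟨e⟩ := nonempty_coker D G
  have hQ : Coh.IsCoh (CohB1.tensorMod G (ClSub.quotMod D)) :=
    CohDev.isCoh_of_iso e (CohDev.isCoh_cokernel _ h1.1 h2)
  have hK : Coh.IsCoh (kernel (phi D G)) := CohDev.isCoh_kernel' _ h1 h2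
  refine ⟨hQ, hK, ?_⟩
  have h := kcl_map k (phi D G) h1 h2
  rw [CohDev.kcl_iso e (CohDev.isCoh_cokernel _ h1.1 h2), CohDev.kcl_iso (ProjTwist.tensOne G) h2,
    ← CohDev.kcl_iso (ProjTwist.tensComm (ClSub.idealMod D) G) (Snapper.isCoh_tensorMod k hD hG)] at h
  rw [intE_cons k hN hD hG, ← neg_sub (CohDev.kcl G), h, map_neg, neg_neg, map_sub, intK_kcl k hN hQ,
    intK_kcl k hN hK]

theorem support_kernel_subset (D : X.IdealSheafData) (hD : PicF.IsInvertible (ClSub.idealMod D))
    (G : X.Modules) [G.IsQuasicoherent] :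
    CohB1.support (kernel (phi D G)) ⊆ CohB1.support G ∩ CohB1.support (ClSub.quotMod D) := by
  haveI := EulerChar.isNoetherian k (X := X)
  intro x hx
  refine ⟨HilbPolyX.support_tensorMod_subset G _ (CohDev.support_subset_of_mono (kernel.ι (phi D G)) hx), ?_⟩
  by_contra hnot
  refine CohDev.not_mem_support_kernel (phi D G) (injective_phi D G ?_) hx
  obtain ⟨f, -, hinj, -⟩ := exists_equation D hD x
  obtain ⟨U, e, hxU, he⟩ := exists_isGen hD x
  refine (injective_iff_map_eq_zero _).2 fun z hz => ?_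
  have hu := isUnit_germ_of_isUnitAt he x hxU (isUnitAt_of_not_mem D hD hnot)
  obtain ⟨W, hW, hxW, g, rfl⟩ := exists_germ_tmul he x hxU z
  rw [stalkLin_mulθ, app_res] at hz
  have hz' : X.presheaf.germ U x hxU (show Γ(X, U) from (ClSub.idealModι D).app U e) • germM G W x hxW g = 0 := by
    refine Eq.trans ?_ hz
    exact congrArg (fun r : X.presheaf.stalk x => r • germM G W x hxW g)
      (X.presheaf.germ_res_apply (homOfLE hW) x hxW _).symm
  have hg := hu.smul_eq_zero.1 hz'
  obtain ⟨W', hxW', i, i', hW'⟩ := G.presheaf.germ_eq x hxW hxW g 0 (hg.trans (AssSch.Stalk.germM_zero G x hxW).symm)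
  rw [map_zero] at hW'
  have hle : W' ≤ W := i.le
  have hg0 : res G hle g = 0 := hW'
  rw [← AssSch.Stalk.germM_res _ hle x hxW' (tmul g (res _ hW e)), res_tmul, hg0, tmul_zero_left]
  exact AssSch.Stalk.germM_zero _ x hxW'

/-- Divisors with no common point on `G` have zero number. -/
theorem intE_eq_zero_of_disjoint : ∀ {r : ℕ} (I : Fin r → X.IdealSheafData),
    (∀ j, PicF.IsInvertible (ClSub.idealMod (I j))) → ∀ {G : X.Modules}, Coh.IsCoh G →
    (∀ x ∈ CohB1.support G, ∃ j, x ∉ CohB1.support (ClSub.quotMod (I j))) →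
    intE k (fun j => ClSub.idealMod (I j)) G = 0 := by
  intro r
  induction r with
  | zero =>
    intro I _ G hG h
    rw [Snapper.intE_zero]
    exact EulerChar.euler_of_isZero k (CohDev.isZero_of_support_eq_empty
      (Set.eq_empty_of_forall_notMem fun x hx => (h x hx).choose.elim0))
  | succ r ih =>
    intro I hI G hG h
    haveI : G.IsQuasicoherent := hG.1
    have hN : ∀ j : Fin r, PicF.IsInvertible (ClSub.idealMod (I j.succ)) := fun j => hI _
    obtain ⟨hQ, hK, he⟩ := intE_cons_ideal k hN (I 0) (hI 0) hG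
    have e : (fun j => ClSub.idealMod (I j)) = Fin.cons (ClSub.idealMod (I 0)) fun j => ClSub.idealMod (I j.succ) := by
      funext j; induction j using Fin.cases <;> simp
    rw [e, he, ih (fun j => I j.succ) hN hQ ?_, ih (fun j => I j.succ) hN hK ?_, sub_zero]
    · intro x hx
      obtain ⟨hxG, hx0⟩ := support_kernel_subset k (I 0) (hI 0) G hx
      obtain ⟨j, hj⟩ := h x hxG
      induction j using Fin.cases with
      | zero => exact absurd hx0 hj
      | succ j => exact ⟨j, hj⟩
    · intro x hx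
      obtain ⟨hxG, hx0⟩ := support_tensor_quot_subset (I 0) G hx
      obtain ⟨j, hj⟩ := h x hxG
      induction j using Fin.cases with
      | zero => exact absurd hx0 hj
      | succ j => exact ⟨j, hj⟩

/-- Regularity of the first equation from depth and isolation. -/
theorem isSMulRegular_head {r : ℕ} (I : Fin (r + 1) → X.IdealSheafData)
    (hI : ∀ j, PicF.IsInvertible (ClSub.idealMod (I j))) {F : X.Modules} (hF : Coh.IsCoh F)
    {T : Set X} (hT : T = CohB1.support F ∩ ⋂ j, CohB1.support (ClSub.quotMod (I j))) (hfin : T.Finite)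
    {x : X} (hx : x ∈ T) (hdepth : ((r + 1 : ℕ) : ℕ∞) ≤ LocCoh.depth (X.presheaf.stalk x) (F.presheaf.stalk x))
    {f : X.presheaf.stalk x}
    (hf : ∀ t : (Coh.structureModule X).presheaf.stalk x,
      t ∈ LinearMap.range (stalkLin (mulθ (ClSub.idealModι (I 0)) (Coh.structureModule X)) x) ↔ ∃ s, f • s = t) :
    IsSMulRegular (F.presheaf.stalk x) f := by
  classical
  haveI := EulerChar.isNoetherian k (X := X)
  haveI : JacobsonSpace X := LocallyOfFiniteType.jacobsonSpace (X ↘ Spec (CommRingCat.of k))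
  haveI : F.IsQuasicoherent := hF.1
  haveI : F.IsFiniteType := hF.2
  haveI := FDesc.QuasiFlat.finite_stalk_of_isCoh F hF x
  have hQc := fun j => EulerChar.isCoh_quotMod k (I j)
  have hTc : IsClosed T := hT ▸ (CohDev.isClosed_support hF).inter
    (isClosed_iInter fun j => CohDev.isClosed_support (hQc j))
  have hx' : x ∈ CohB1.support F ∩ ⋂ j, CohB1.support (ClSub.quotMod (I j)) := hT ▸ hx
  choose g hg using fun j : Fin (r + 1) => exists_equation (I j) (hI j) x
  have hmem : ∀ {a : X.presheaf.stalk x} {j : Fin (r + 1)},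
      a ∈ Module.annihilator (X.presheaf.stalk x) ((ClSub.quotMod (I j)).presheaf.stalk x) →
        a ∈ IsLocalRing.maximalIdeal (X.presheaf.stalk x) := fun {a j} ha => by
    haveI : Nontrivial ((ClSub.quotMod (I j)).presheaf.stalk x) :=
      not_subsingleton_iff_nontrivial.1 (Set.mem_iInter.1 hx'.2 j)
    refine IsLocalRing.le_maximalIdeal (fun h => ?_) ha
    have h1 : (1 : X.presheaf.stalk x) ∈ Module.annihilator (X.presheaf.stalk x)
        ((ClSub.quotMod (I j)).presheaf.stalk x) := h ▸ Submodule.mem_top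
    obtain ⟨t, ht⟩ := exists_ne (0 : (ClSub.quotMod (I j)).presheaf.stalk x)
    exact ht (by rw [← one_smul (X.presheaf.stalk x) t]; exact Module.mem_annihilator.1 h1 t)
  by_contra hnreg
  obtain ⟨p, hp, hfp⟩ : ∃ p ∈ associatedPrimes (X.presheaf.stalk x) (F.presheaf.stalk x), f ∈ p := by
    have h : f ∈ ({r : X.presheaf.stalk x | IsSMulRegular (F.presheaf.stalk x) r}ᶜ : Set _) := hnreg
    rw [← biUnion_associatedPrimes_eq_compl_regular] at h
    simpa using h
  haveI := Depth.isPrime_of_mem_associatedPrimes hp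
  let s : Finset (X.presheaf.stalk x ⧸ p) := Finset.univ.image fun j : Fin r => Ideal.Quotient.mk p (g j.succ)
  have hs : (s : Set (X.presheaf.stalk x ⧸ p)) ⊆ Ring.jacobson (X.presheaf.stalk x ⧸ p) := by
    haveI : IsLocalRing (X.presheaf.stalk x ⧸ p) :=
      IsLocalRing.of_surjective' (Ideal.Quotient.mk p) Ideal.Quotient.mk_surjective
    intro a ha
    obtain ⟨j, -, rfl⟩ := Finset.mem_image.1 ha
    rw [SetLike.mem_coe, IsLocalRing.ringJacobson_eq_maximalIdeal, IsLocalRing.mem_maximalIdeal]
    intro hu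
    haveI := IsLocalHom.of_surjective (Ideal.Quotient.mk p) Ideal.Quotient.mk_surjective
    exact hmem (hg j.succ).2.2 (isUnit_of_map_unit (Ideal.Quotient.mk p) _ hu)
  have h1 : ringKrullDim ((X.presheaf.stalk x ⧸ p) ⧸ Ideal.span (s : Set (X.presheaf.stalk x ⧸ p))) ≤ 0 := by
    refine Ring.krullDimLE_iff.1 (Ring.krullDimLE_zero_iff.2 fun Q hQ => ?_)
    let q : Ideal (X.presheaf.stalk x) :=
      (Q.comap (Ideal.Quotient.mk (Ideal.span (s : Set (X.presheaf.stalk x ⧸ p))))).comap (Ideal.Quotient.mk p)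
    haveI : q.IsPrime := inferInstanceAs ((Ideal.comap _ (Ideal.comap _ Q)).IsPrime)
    have hpq : p ≤ q := fun a ha => by
      simp only [q, Ideal.mem_comap, Ideal.Quotient.eq_zero_iff_mem.2 ha, zero_mem]
    have hgq : ∀ j : Fin r, g j.succ ∈ q := fun j => by
      have : Ideal.Quotient.mk (Ideal.span (s : Set (X.presheaf.stalk x ⧸ p))) (Ideal.Quotient.mk p (g j.succ)) = 0 :=
        Ideal.Quotient.eq_zero_iff_mem.2 (Ideal.subset_span (Finset.mem_image_of_mem _ (Finset.mem_univ j)))
      simp only [q, Ideal.mem_comap, this, zero_mem]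
    let y := X.fromSpecStalk x ⟨q, inferInstance⟩
    have hyx : y ⤳ x := by
      have : y ∈ Set.range (X.fromSpecStalk x) := ⟨_, rfl⟩
      rwa [Scheme.range_fromSpecStalk] at this
    have hyT : y ∈ T := by
      rw [hT]
      refine ⟨not_subsingleton_iff_nontrivial.2 ((Fibres16.EquidimStalk.annihilator_le_iff F x ⟨q, inferInstance⟩).1
        ((Depth.annihilator_le_associatedPrime hp).trans hpq)), Set.mem_iInter.2 fun j => ?_⟩
      haveI : (ClSub.quotMod (I j)).IsQuasicoherent := (hQc j).1
      haveI : (ClSub.quotMod (I j)).IsFiniteType := (hQc j).2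
      refine not_subsingleton_iff_nontrivial.2
        ((Fibres16.EquidimStalk.annihilator_le_iff (ClSub.quotMod (I j)) x ⟨q, inferInstance⟩).1 fun a ha => ?_)
      have hS := EulerChar.shortExact_ideal (I j)
      let E := HomShEval.Reflexive.structureStalkEquiv x
      let one : (Coh.structureModule X).presheaf.stalk x := E 1
      have h0 : stalkLin (ClSub.toSubscheme (I j)) x (a • one) = 0 := by
        rw [map_smul, Module.mem_annihilator.1 ha]
      obtain ⟨z, hz⟩ := (((stalk_exact hS x).2.1) _).1 h0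
      have hz' : a • one ∈ LinearMap.range (stalkLin (mulθ (ClSub.idealModι (I j)) (Coh.structureModule X)) x) := by
        rw [range_idealModι (I j) (hI j) x]
        exact ⟨z, hz⟩
      obtain ⟨b, hbq, c, hc⟩ : ∃ b ∈ q, ∃ c, b • c = a • one := by
        induction j using Fin.cases with
        | zero => exact ⟨f, hpq hfp, (hf _).1 hz'⟩
        | succ j => exact ⟨g j.succ, hgq j, ((hg j.succ).1 _ _).1 hz'⟩
      have hc' := congrArg E.symm hc
      simp only [one, map_smul, LinearEquiv.symm_apply_apply, smul_eq_mul, mul_one] at hc'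
      exact hc' ▸ q.mul_mem_right _ hbq
    have hcl := isClosed_singleton_of_finite hTc hfin hyT
    have hyx' : y = x := (Set.mem_singleton_iff.1 (hyx.mem_closed hcl rfl)).symm
    have hqm : q = IsLocalRing.maximalIdeal (X.presheaf.stalk x) := by
      have h := (X.fromSpecStalk x).isEmbedding.injective
        (a₁ := ⟨q, inferInstance⟩) (a₂ := IsLocalRing.closedPoint (X.presheaf.stalk x))
        (hyx'.trans (Scheme.fromSpecStalk_closedPoint (X := X) (x := x)).symm)
      exact congrArg PrimeSpectrum.asIdeal h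
    haveI : q.IsMaximal := hqm ▸ inferInstance
    let π := (Ideal.Quotient.mk (Ideal.span (s : Set (X.presheaf.stalk x ⧸ p)))).comp (Ideal.Quotient.mk p)
    have hπ : Function.Surjective π := Ideal.Quotient.mk_surjective.comp Ideal.Quotient.mk_surjective
    have hmap : Q = q.map π := by
      rw [show q = Q.comap π from Ideal.comap_comap _ _, Ideal.map_comap_of_surjective π hπ]
    rw [hmap]
    exact (Ideal.map_eq_top_or_isMaximal_of_surjective π hπ (inferInstanceAs q.IsMaximal)).resolve_left
      (hmap ▸ hQ.ne_top)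
  have h2 := (Depth.depth_le_ringKrullDim_quotient hp).trans (ringKrullDim_le_ringKrullDim_quotient_add_card s hs)
  have h3 : (s.card : WithBot ℕ∞) ≤ (r : WithBot ℕ∞) := by
    have : s.card ≤ r := Finset.card_image_le.trans (by simp)
    exact_mod_cast this
  have h4 : (((r + 1 : ℕ) : ℕ∞) : WithBot ℕ∞) ≤ (r : WithBot ℕ∞) :=
    (WithBot.coe_le_coe.2 hdepth).trans (h2.trans ((add_le_add h1 h3).trans (zero_add _).le))
  have h5 : r + 1 ≤ r := by exact_mod_cast h4
  omega

/-- The intersection number is the length of the intersection. -/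
theorem intE_eq_euler : ∀ {r : ℕ} (I : Fin r → X.IdealSheafData),
    (∀ j, PicF.IsInvertible (ClSub.idealMod (I j))) → ∀ {F : X.Modules}, Coh.IsCoh F →
    (CohB1.support F ∩ ⋂ j, CohB1.support (ClSub.quotMod (I j))).Finite →
    (∀ x ∈ CohB1.support F ∩ ⋂ j, CohB1.support (ClSub.quotMod (I j)),
      (r : ℕ∞) ≤ LocCoh.depth (X.presheaf.stalk x) (F.presheaf.stalk x)) →
    intE k (fun j => ClSub.idealMod (I j)) F = Curv2.euler k X (CohB1.tensorMod F (ClSub.quotMod (⨆ j, I j))) := by
  haveI := EulerChar.isNoetherian k (X := X)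
  intro r
  induction r with
  | zero =>
    intro I _ F hF _ _
    rw [Snapper.intE_zero, iSup_of_empty]
    exact EulerChar.euler_iso k ((ProjTwist.tensOne F).symm ≪≫
      ProjTwist.tensCongr (Iso.refl F) nonempty_quotMod_bot.some.symm)
  | succ r ih =>
    intro I hI F hF hfin hdepth
    haveI : F.IsQuasicoherent := hF.1
    have hN : ∀ j : Fin r, PicF.IsInvertible (ClSub.idealMod (I j.succ)) := fun j => hI _
    obtain ⟨hQ, hK, he⟩ := intE_cons_ideal k hN (I 0) (hI 0) hF
    have e : (fun j => ClSub.idealMod (I j)) = Fin.cons (ClSub.idealMod (I 0)) fun j => ClSub.idealMod (I j.succ) := by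
      funext j; induction j using Fin.cases <;> simp
    have hreg : ∀ x ∈ CohB1.support F ∩ ⋂ j, CohB1.support (ClSub.quotMod (I j)), ∃ f : X.presheaf.stalk x,
        (∀ t : F.presheaf.stalk x, t ∈ LinearMap.range (stalkLin (mulθ (ClSub.idealModι (I 0)) F) x) ↔
          ∃ s, f • s = t) ∧ IsSMulRegular (F.presheaf.stalk x) f ∧
        Function.Injective (stalkLin (mulθ (ClSub.idealModι (I 0)) F) x) ∧
        f ∈ IsLocalRing.maximalIdeal (X.presheaf.stalk x) := by
      intro x hx
      obtain ⟨f, hf, hinj, hann⟩ := exists_equation (I 0) (hI 0) x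
      have hr := isSMulRegular_head k I hI hF rfl hfin hx (hdepth x hx) (hf _)
      refine ⟨f, hf F, hr, hinj F hr, ?_⟩
      haveI : Nontrivial ((ClSub.quotMod (I 0)).presheaf.stalk x) :=
        not_subsingleton_iff_nontrivial.1 (Set.mem_iInter.1 hx.2 0)
      obtain ⟨t, ht⟩ := exists_ne (0 : (ClSub.quotMod (I 0)).presheaf.stalk x)
      exact (IsLocalRing.mem_maximalIdeal _).2 fun hu => ht (hu.smul_eq_zero.1 (Module.mem_annihilator.1 hann t))
    have hzero : intE k (fun j : Fin r => ClSub.idealMod (I j.succ)) (kernel (phi (I 0) F)) = 0 := by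
      refine intE_eq_zero_of_disjoint k (fun j => I j.succ) hN hK fun x hx => ?_
      obtain ⟨hxF, hx0⟩ := support_kernel_subset k (I 0) (hI 0) F hx
      by_contra! hall
      obtain ⟨f, -, -, hinj, -⟩ := hreg x ⟨hxF, Set.mem_iInter.2 fun j => Fin.cases hx0 hall j⟩
      exact CohDev.not_mem_support_kernel (phi (I 0) F) (injective_phi (I 0) F hinj) hx
    have hsub : CohB1.support (CohB1.tensorMod F (ClSub.quotMod (I 0))) ∩
        (⋂ j : Fin r, CohB1.support (ClSub.quotMod (I j.succ))) ⊆
        CohB1.support F ∩ ⋂ j, CohB1.support (ClSub.quotMod (I j)) := by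
      rintro x ⟨hx1, hx2⟩
      obtain ⟨hxF, hx0⟩ := support_tensor_quot_subset (I 0) F hx1
      exact ⟨hxF, Set.mem_iInter.2 fun j => Fin.cases hx0 (Set.mem_iInter.1 hx2) j⟩
    have hd' : ∀ x ∈ CohB1.support (CohB1.tensorMod F (ClSub.quotMod (I 0))) ∩
        (⋂ j : Fin r, CohB1.support (ClSub.quotMod (I j.succ))),
        (r : ℕ∞) ≤ LocCoh.depth (X.presheaf.stalk x) ((CohB1.tensorMod F (ClSub.quotMod (I 0))).presheaf.stalk x) := by
      intro x hx
      haveI := FDesc.QuasiFlat.finite_stalk_of_isCoh F hF x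
      obtain ⟨f, hf, hr, -, hm⟩ := hreg x (hsub hx)
      obtain ⟨eq⟩ := nonempty_stalk_quot (I 0) F (hI 0) x hf
      rw [LocCoh.depth, ← Depth.idealDepth_congr eq]
      exact (Depth.le_idealDepth_quotSMulTop_iff hm hr r).2 (hdepth x (hsub hx))
    rw [e, he, hzero, sub_zero, ih (fun j => I j.succ) hN hQ (hfin.subset hsub) hd']
    have hsup : (⨆ j, I j) = I 0 ⊔ ⨆ j : Fin r, I j.succ :=
      le_antisymm (iSup_le fun j => Fin.cases le_sup_left (fun j => le_sup_of_le_right (le_iSup (fun j => I j.succ) j)) j)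
        (sup_le (le_iSup I 0) (iSup_le fun j => le_iSup I j.succ))
    rw [hsup]
    exact EulerChar.euler_iso k (ProjTwist.tensAssoc _ _ _ ≪≫
      ProjTwist.tensCongr (Iso.refl F) (nonempty_tensor_quotMod (I 0) _).some)

omit k in
theorem isCoh_tens_coh [IsLocallyNoetherian X] {A B : X.Modules} (hA : Coh.IsCoh A) (hB : Coh.IsCoh B) :
    Coh.IsCoh (CohB1.tensorMod A B) := by
  haveI : A.IsQuasicoherent := hA.1
  haveI : B.IsQuasicoherent := hB.1
  haveI : A.IsFiniteType := hA.2
  haveI : B.IsFiniteType := hB.2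
  exact ⟨LimTop.TensorQC.isQuasicoherent_tensM A B, LimTop.TensorQC.isFT_tensM A B⟩

/-- The dimension of the sections on a finite intersection. -/
theorem euler_eq_h0 {r : ℕ} (I : Fin r → X.IdealSheafData) {F : X.Modules} (hF : Coh.IsCoh F)
    (hfin : (((⨆ j, I j).support : Set X) ∩ CohB1.support F).Finite) :
    Curv2.euler k X (CohB1.tensorMod F (ClSub.quotMod (⨆ j, I j))) =
      Module.finrank k (Coh.HH X (CohB1.tensorMod F (ClSub.quotMod (⨆ j, I j))) 0) := by
  haveI := EulerChar.isNoetherian k (X := X)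
  haveI : JacobsonSpace X := LocallyOfFiniteType.jacobsonSpace (X ↘ Spec (CommRingCat.of k))
  haveI : F.IsQuasicoherent := hF.1
  have hQ : Coh.IsCoh (CohB1.tensorMod F (ClSub.quotMod (⨆ j, I j))) :=
    isCoh_tens_coh hF (EulerChar.isCoh_quotMod k _)
  refine EulerChar.euler_eq_finrank_of_support k hQ ?_
  have hfin' : (CohB1.support (CohB1.tensorMod F (ClSub.quotMod (⨆ j, I j)))).Finite :=
    hfin.subset fun x hx => ⟨EulerChar.support_quotMod_subset _ (support_tensor_quot_subset _ F hx).2,
      (support_tensor_quot_subset _ F hx).1⟩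
  have hcl := CohDev.isClosed_support hQ
  haveI : Finite ↥(CohB1.support (CohB1.tensorMod F (ClSub.quotMod (⨆ j, I j)))) := hfin'.to_subtype
  haveI : T1Space ↥(CohB1.support (CohB1.tensorMod F (ClSub.quotMod (⨆ j, I j)))) :=
    ⟨fun y => by
      have h : IsClosed (Subtype.val ⁻¹' ({(y : X)} : Set X) :
          Set ↥(CohB1.support (CohB1.tensorMod F (ClSub.quotMod (⨆ j, I j))))) :=
        (isClosed_singleton_of_finite hcl hfin' y.2).preimage continuous_subtype_val
      convert h using 1
      exact Set.ext fun z => Subtype.ext_iff⟩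
  exact topologicalKrullDim_zero_of_discreteTopology _

end Groth.Agent.CartInt
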