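import Groth.Agent.EulerChar.Cartier
import Groth.Agent.IdealSh.IdealMod
import Groth.Agent.LimTop.PullSys
import Groth.Agent.NegVan.MulTheta
import Groth.Agent.KFlat.TensorLocFree
import Groth.Agent.CohAff.ResOps

/-!
# `O/I ⊗ O/J ≅ O/(I + J)`
-/

set_option autoImplicit false
set_option linter.style.haveILetI false
set_option backward.isDefEq.respectTransparency false
set_option backward.isDefEq.respectTransparency.types false

universe u

open CategoryTheory CategoryTheory.Limits AlgebraicGeometry Opposite MonoidalCategory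

noncomputable section

namespace Groth.Agent.CartInt

open Groth.Agent.QCoh Groth.Agent.Props.GenLocus Groth.Agent.Props.GenTensor Groth.Agent.ProjTwist
open Groth.Agent.PullStalk.Sky Groth.Agent.PullStalk.Exact Groth.Agent.NegVan
open scoped TensorProduct

variable {X : Scheme.{u}}

/-- `G ⊗ φ`. -/
def mapR (G : X.Modules) {N N' : X.Modules} (φ : N ⟶ N') :
    CohB1.tensorMod G N ⟶ CohB1.tensorMod G N' := ((DCoh.tensorBi (X := X)).obj G).map φ

theorem map_tmul (G : X.Modules) {N N' : X.Modules} (φ : N ⟶ N') {U : X.Opens} (g : Γ(G, U))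
    (a : Γ(N, U)) : (mapR G φ).app U (tmul g a) = tmul g (φ.app U a) := by
  have h := (PresheafOfModules.sheafificationAdjunction (𝟙 X.ringCatSheaf.obj)).unit.naturality
    (CohB1.toPMod G ◁ (show CohB1.toPMod N ⟶ CohB1.toPMod N' from φ.val))
  exact congr((PresheafOfModules.Hom.app $h (op U)).hom (g ⊗ₜ[Γ(X, U)] a)).symm

/-- `G ⊗ O ⟶ G`, `g ⊗ a ↦ a • g`. -/
abbrev mu (G : X.Modules) : CohB1.tensorMod G (Coh.structureModule X) ⟶ G :=
  mulθ (𝟙 (Coh.structureModule X)) G

theorem map_comp_mu (G : X.Modules) {N : X.Modules} (θ : N ⟶ Coh.structureModule X) :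
    mapR G θ ≫ mu G = mulθ θ G := by
  refine hom_ext_tmul _ _ fun U g a => ?_
  exact (congrArg ((mu G).app U) (map_tmul G θ g a)).trans
    ((mulθ_tmul (𝟙 (Coh.structureModule X)) G g (θ.app U a)).trans (mulθ_tmul θ G g a).symm)

theorem mu_tmul (G : X.Modules) {U : X.Opens} (g : Γ(G, U)) (a : Γ(X, U)) :
    (mu G).app U (tmul g (show Γ(Coh.structureModule X, U) from a)) = a • g :=
  mulθ_tmul (𝟙 (Coh.structureModule X)) G g a

theorem bijective_stalk_mu [IsLocallyNoetherian X] (G : X.Modules) [G.IsQuasicoherent] : IsIso (mu G) := by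
  haveI : Mono (mu G) :=
    mono_mulθ (LFFrame.isInvertible_structureModule X) fun x _ t => ⟨t, stalkLin_id_apply' x t⟩
  haveI : Epi (mu G) := CohAff.epi_of_affine_surjective _ fun U hU g =>
    ⟨tmul g (show Γ(Coh.structureModule X, U) from (1 : Γ(X, U))), (mu_tmul G g 1).trans (one_smul _ g)⟩
  exact isIso_of_mono_of_epi _
where
  stalkLin_id_apply' (x : X) (t : (Coh.structureModule X).presheaf.stalk x) :
      stalkLin (𝟙 (Coh.structureModule X)) x t = t := CohDev.stalkLin_id_apply x t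

variable [IsLocallyNoetherian X] (I J : X.IdealSheafData)

instance : IsIso (mu (Coh.structureModule X)) :=
  haveI := ProjTwist.isQuasicoherent_structureModule X
  bijective_stalk_mu _

theorem toSubscheme_eq_zero_iff (U : X.affineOpens) (a : Γ(X, U.1)) :
    (ClSub.toSubscheme I).app U.1 a = 0 ↔ a ∈ I.ideal U := by
  rw [← I.ker_subschemeι_app U]
  exact Iff.rfl

/-- Maps out of `O` killing two ideals kill their sum. -/
theorem comp_eq_zero_sup {M : X.Modules} (g : Coh.structureModule X ⟶ M)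
    (hI : ClSub.idealModι I ≫ g = 0) (hJ : ClSub.idealModι J ≫ g = 0) :
    ClSub.idealModι (I ⊔ J) ≫ g = 0 := by
  have key : ∀ (D : X.IdealSheafData), ClSub.idealModι D ≫ g = 0 → ∀ (U : X.affineOpens) (a : Γ(X, U.1)),
      a ∈ D.ideal U → g.app U.1 a = 0 := by
    intro D hD U a ha
    have h0 : D.subschemeι.app U.1 a = 0 := (toSubscheme_eq_zero_iff D U a).2 ha
    obtain ⟨s, hs⟩ := IdealSh.IdealMod.exists_sect (𝓘 := D) U.1 a h0
    rw [← hs]
    exact congr(Scheme.Modules.Hom.app $hD U.1 s)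
  refine LimTop.hom_ext_affine _ _ fun U hU => ?_
  ext s
  have h := IdealSh.IdealMod.sect_mem (𝓘 := I ⊔ J) ⟨U, hU⟩ s
  rw [Scheme.IdealSheafData.ideal_sup, Pi.sup_apply] at h
  obtain ⟨a, ha, b, hb, hab⟩ := (Submodule.mem_sup (R := Γ(X, U))).1 h
  show g.app U ((ClSub.idealModι (I ⊔ J)).app U s) = _
  refine Eq.trans ?_ (show g.app U (a + b) = 0 by
    rw [map_add, key I hI ⟨U, hU⟩ a ha, key J hJ ⟨U, hU⟩ b hb, add_zero])
  exact congrArg (g.app U) hab.symm

/-- `O/I ⊗ O/J ≅ O/(I+J)`. -/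
theorem nonempty_tensor_quotMod :
    Nonempty (CohB1.tensorMod (ClSub.quotMod I) (ClSub.quotMod J) ≅ ClSub.quotMod (I ⊔ J)) := by
  let O := Coh.structureModule X
  let T := fun (G : X.Modules) => (DCoh.tensorBi (X := X)).obj G
  haveI : ∀ G : X.Modules, PreservesColimitsOfSize.{0, 0} ((DCoh.tensorBi (X := X)).obj G) :=
    fun G => KFlat.TensorLocFree.preservesColimits_tensorBi_obj G
  haveI : ∀ G : X.Modules, PreservesColimitsOfSize.{0, 0} ((DCoh.tensorBi (X := X)).flip.obj G) :=
    fun G => @preservesColimits_of_natIso _ _ _ _ _ _ ((KFlat.tensorBiFlipIso (O := X.sheaf)).app G).symm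
      (KFlat.TensorLocFree.preservesColimits_tensorBi_obj G)
  haveI : ∀ G : X.Modules, PreservesFiniteColimits ((DCoh.tensorBi (X := X)).flip.obj G) :=
    fun G => PreservesColimitsOfSize.preservesFiniteColimits _
  haveI : ∀ G : X.Modules, PreservesFiniteColimits ((DCoh.tensorBi (X := X)).obj G) :=
    fun G => PreservesColimitsOfSize.preservesFiniteColimits _
  have hSI := EulerChar.shortExact_ideal I
  have hSJ := EulerChar.shortExact_ideal J
  haveI := hSI.epi_g
  haveI := hSJ.epi_g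
  let pI : CohB1.tensorMod O O ⟶ CohB1.tensorMod (ClSub.quotMod I) O :=
    ((DCoh.tensorBi (X := X)).map (ClSub.toSubscheme I)).app O
  let pJ : CohB1.tensorMod (ClSub.quotMod I) O ⟶ CohB1.tensorMod (ClSub.quotMod I) (ClSub.quotMod J) :=
    mapR (ClSub.quotMod I) (ClSub.toSubscheme J)
  haveI : Epi pI := inferInstanceAs (Epi (((DCoh.tensorBi (X := X)).flip.obj O).map (ClSub.toSubscheme I)))
  haveI : Epi pJ := inferInstanceAs (Epi (((DCoh.tensorBi (X := X)).obj (ClSub.quotMod I)).map (ClSub.toSubscheme J)))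
  have cI := CokernelCofork.mapIsColimit (CokernelCofork.ofπ _ (kernel.condition _)) hSI.gIsCokernel
    ((DCoh.tensorBi (X := X)).flip.obj O)
  have cJ := CokernelCofork.mapIsColimit (CokernelCofork.ofπ _ (kernel.condition _)) hSJ.gIsCokernel
    ((DCoh.tensorBi (X := X)).obj (ClSub.quotMod I))
  let q : O ⟶ CohB1.tensorMod (ClSub.quotMod I) (ClSub.quotMod J) := inv (mu O) ≫ pI ≫ pJ
  have hq : mu O ≫ q = pI ≫ pJ := by simp only [q, IsIso.hom_inv_id_assoc]
  have hqI : ClSub.idealModι I ≫ q = 0 := by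
    haveI : IsIso (mu (ClSub.idealMod I)) := by
      haveI : (ClSub.idealMod I).IsQuasicoherent := by
        haveI := ProjTwist.isQuasicoherent_structureModule X
        haveI := ProjTwist.isQuasicoherent_structureModule I.subscheme
        haveI : (ClSub.quotMod I).IsQuasicoherent := QCoh.isQuasicoherent_pushforward I.subschemeι _
        exact QCoh.isQuasicoherent_kernel (ClSub.toSubscheme I)
      exact bijective_stalk_mu _
    rw [← cancel_epi (mu (ClSub.idealMod I)), comp_zero, ← Category.assoc, ← mulθ_natural, Category.assoc, hq,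
      ← Category.assoc]
    have h : (tF O).map (ClSub.idealModι I) ≫ pI = 0 := by
      show ((DCoh.tensorBi (X := X)).flip.obj O).map _ ≫ ((DCoh.tensorBi (X := X)).flip.obj O).map _ = 0
      rw [← Functor.map_comp, show ClSub.idealModι I ≫ ClSub.toSubscheme I = 0 from kernel.condition _,
        Functor.map_zero]
    rw [h, zero_comp]
  have exch : mapR O (ClSub.idealModι J) ≫ pI =
      ((DCoh.tensorBi (X := X)).map (ClSub.toSubscheme I)).app _ ≫ mapR (ClSub.quotMod I) (ClSub.idealModι J) :=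
    ((DCoh.tensorBi (X := X)).map (ClSub.toSubscheme I)).naturality _
  have hkJ : mapR (ClSub.quotMod I) (ClSub.idealModι J) ≫ pJ = 0 := by
    show ((DCoh.tensorBi (X := X)).obj _).map _ ≫ ((DCoh.tensorBi (X := X)).obj _).map _ = 0
    rw [← Functor.map_comp, show ClSub.idealModι J ≫ ClSub.toSubscheme J = 0 from kernel.condition _,
      Functor.map_zero]
  have hJ' : mapR O (ClSub.idealModι J) ≫ mu O ≫ q = 0 := by
    rw [hq, ← Category.assoc, exch, Category.assoc, hkJ, comp_zero]
  have swapJ : ∀ {M : X.Modules} (g : O ⟶ M), mapR O (ClSub.idealModι J) ≫ mu O ≫ g = 0 ↔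
      ClSub.idealModι J ≫ g = 0 := by
    intro M g
    have comm : ∀ (U : X.Opens) (a : Γ(X, U)) (j : Γ(ClSub.idealMod J, U)),
        (mapR O (ClSub.idealModι J) ≫ mu O ≫ g).app U (tmul (show Γ(O, U) from a) j) =
          (ClSub.idealModι J ≫ g).app U (a • j) := by
      intro U a j
      show g.app U ((mu O).app U ((mapR O (ClSub.idealModι J)).app U (tmul (show Γ(O, U) from a) j))) =
        g.app U ((ClSub.idealModι J).app U (a • j))
      rw [map_tmul, Scheme.Modules.Hom.app_smul]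
      refine congrArg (g.app U) ((mu_tmul O _ _).trans ?_)
      exact mul_comm (show Γ(X, U) from (ClSub.idealModι J).app U j) a
    constructor
    · intro h
      refine Scheme.Modules.hom_ext _ _ fun U => ?_
      ext j
      have h' := comm U 1 j
      rw [h, one_smul] at h'
      exact h'.symm
    · intro h
      refine hom_ext_tmul _ _ fun U a j => ?_
      refine (comm U a j).trans ?_
      rw [h]
      rfl
  have hqJ : ClSub.idealModι J ≫ q = 0 := (swapJ q).1 hJ'
  have univ : ∀ {M : X.Modules} (g : O ⟶ M), ClSub.idealModι I ≫ g = 0 → ClSub.idealModι J ≫ g = 0 →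
      ∃ h, q ≫ h = g := by
    intro M g gI gJ
    have h0 : (tF O).map (ClSub.idealModι I) ≫ (mu O ≫ g) = 0 := by
      rw [← Category.assoc, mulθ_natural, Category.assoc, gI, comp_zero]
    obtain ⟨h1, hh1⟩ : ∃ h1, pI ≫ h1 = mu O ≫ g := ⟨_, (CokernelCofork.IsColimit.desc' cI _ h0).2⟩
    haveI : Epi (((DCoh.tensorBi (X := X)).map (ClSub.toSubscheme I)).app (ClSub.idealMod J)) :=
      inferInstanceAs (Epi (((DCoh.tensorBi (X := X)).flip.obj (ClSub.idealMod J)).map (ClSub.toSubscheme I)))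
    have h2 : mapR (ClSub.quotMod I) (ClSub.idealModι J) ≫ h1 = 0 := by
      rw [← cancel_epi (((DCoh.tensorBi (X := X)).map (ClSub.toSubscheme I)).app (ClSub.idealMod J)), comp_zero,
        ← Category.assoc, ← exch, Category.assoc, hh1]
      exact (swapJ g).2 gJ
    obtain ⟨h, hh⟩ : ∃ h, pJ ≫ h = h1 := ⟨_, (CokernelCofork.IsColimit.desc' cJ _ h2).2⟩
    refine ⟨h, ?_⟩
    simp only [q, Category.assoc, hh, hh1, IsIso.inv_hom_id_assoc]
  haveI : Epi q := by simp only [q]; infer_instance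
  have hSS := EulerChar.shortExact_ideal (I ⊔ J)
  haveI := hSS.epi_g
  have hle : ∀ {D : X.IdealSheafData}, D ≤ I ⊔ J → ClSub.idealModι D ≫ ClSub.toSubscheme (I ⊔ J) = 0 := by
    intro D hD
    refine LimTop.hom_ext_affine _ _ fun U hU => ?_
    ext s
    exact (toSubscheme_eq_zero_iff (I ⊔ J) ⟨U, hU⟩ _).2 (hD ⟨U, hU⟩ (IdealSh.IdealMod.sect_mem (𝓘 := D) ⟨U, hU⟩ s))
  obtain ⟨a, ha⟩ := univ (ClSub.toSubscheme (I ⊔ J)) (hle le_sup_left) (hle le_sup_right)
  obtain ⟨b, hb⟩ := CokernelCofork.IsColimit.desc' hSS.gIsCokernel q (comp_eq_zero_sup I J q hqI hqJ)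
  replace hb : ClSub.toSubscheme (I ⊔ J) ≫ b = q := hb
  refine ⟨⟨a, b, ?_, ?_⟩⟩
  · rw [← cancel_epi q, ← Category.assoc, ha, hb, Category.comp_id]
  · rw [← cancel_epi (ClSub.toSubscheme (I ⊔ J)), ← Category.assoc, hb, ha, Category.comp_id]

/-- `O/0 ≅ O`. -/
theorem nonempty_quotMod_bot : Nonempty (ClSub.quotMod (⊥ : X.IdealSheafData) ≅ Coh.structureModule X) := by
  haveI : IsIso (ClSub.toSubscheme (⊥ : X.IdealSheafData)) :=
    CohAff.isIso_of_affine_bijective _ fun U hU => by
      refine ⟨(injective_iff_map_eq_zero _).2 fun a ha => ?_, (⊥ : X.IdealSheafData).subschemeι_app_surjective ⟨U, hU⟩⟩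
      have h := (toSubscheme_eq_zero_iff (⊥ : X.IdealSheafData) ⟨U, hU⟩ a).1 ha
      rw [Scheme.IdealSheafData.ideal_bot, Pi.bot_apply] at h
      exact h
  exact ⟨(asIso (ClSub.toSubscheme ⊥)).symm⟩

end Groth.Agent.CartInt
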